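import Mathlib

/-!
# Boundary forms of a lattice with a divisibility
-/

set_option autoImplicit false
set_option linter.all false

namespace GrothLib.LatticeForms2

/-- A vector is a multiple of a basis vector by the gcd of its coordinates. -/
theorem exists_basis (n : ℕ) (d : Fin (n + 1) → ℤ) :
    ∃ e : Module.Basis (Fin (n + 1)) ℤ (Fin (n + 1) → ℤ), d = Finset.univ.gcd d • e 0 := by
  classical
  obtain ⟨v, hv, hg⟩ : ∃ v : Fin (n + 1) → ℤ, d = Finset.univ.gcd d • v ∧ Finset.univ.gcd v = 1 := by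
    by_cases h0 : ∀ i, d i = 0
    · refine ⟨Pi.single 0 1, ?_, ?_⟩
      · rw [Finset.gcd_eq_zero_iff.2 fun i _ => h0 i, zero_smul]
        exact funext h0
      · refine dvd_antisymm_of_normalize_eq Finset.normalize_gcd normalize_one ?_ (one_dvd _)
        have h := Finset.gcd_dvd (f := (Pi.single 0 1 : Fin (n + 1) → ℤ)) (Finset.mem_univ (0 : Fin (n + 1)))
        rwa [Pi.single_eq_same] at h
    · push Not at h0
      obtain ⟨i, hi⟩ := h0
      obtain ⟨v, hv, hg⟩ := Finset.extract_gcd d ⟨i, Finset.mem_univ i⟩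
      exact ⟨v, funext fun j => (hv j (Finset.mem_univ j)).trans (by simp [smul_eq_mul]), hg⟩
  obtain ⟨c, hc⟩ := Finset.gcd_eq_sum_mul (s := (Finset.univ : Finset (Fin (n + 1)))) (f := v)
  rw [hg] at hc
  let f : (Fin (n + 1) → ℤ) →ₗ[ℤ] ℤ := ∑ i, c i • LinearMap.proj i
  have hf : f v = 1 := by
    simp only [f, LinearMap.coe_sum, Finset.sum_apply, LinearMap.smul_apply, LinearMap.proj_apply, smul_eq_mul]
    exact (hc.trans (Finset.sum_congr rfl fun i _ => by ring)).symm
  let N := LinearMap.ker f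
  let Φ : (Fin (n + 1) → ℤ) ≃ₗ[ℤ] ℤ × N :=
    { toFun := fun x => (f x, ⟨x - f x • v, LinearMap.mem_ker.2 (by rw [map_sub, f.map_smul, hf, smul_eq_mul, mul_one, sub_self])⟩)
      map_add' := fun x y => Prod.ext (map_add f x y) (Subtype.ext (by
        show x + y - f (x + y) • v = (x - f x • v) + (y - f y • v)
        rw [map_add, add_smul]; abel))
      map_smul' := fun a x => Prod.ext (f.map_smul a x) (Subtype.ext (by
        show a • x - f (a • x) • v = a • (x - f x • v)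
        rw [f.map_smul, smul_eq_mul, mul_smul, smul_sub]))
      invFun := fun p => p.1 • v + p.2.1
      left_inv := fun x => add_sub_cancel (f x • v) x
      right_inv := fun p => by
        have h2 : f p.2.1 = 0 := p.2.2
        have h3 : f (p.1 • v + p.2.1) = p.1 := by rw [map_add, f.map_smul, hf, h2, smul_eq_mul, mul_one, add_zero]
        refine Prod.ext h3 (Subtype.ext ?_)
        show p.1 • v + p.2.1 - f (p.1 • v + p.2.1) • v = p.2.1
        rw [h3, add_sub_cancel_left] }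
  let bN := Module.finBasis ℤ N
  let b₀ := (((Module.Basis.singleton (Fin 1) ℤ).prod bN).map Φ.symm).reindex finSumFinEquiv
  have hrank : 1 + Module.finrank ℤ N = n + 1 := by
    have h := Module.finrank_eq_card_basis b₀
    rw [Module.finrank_fin_fun, Fintype.card_fin] at h
    exact h.symm
  refine ⟨b₀.reindex (finCongr hrank), ?_⟩
  have he : (b₀.reindex (finCongr hrank)) 0 = v := by
    have h0 : (finCongr hrank).symm 0 = finSumFinEquiv (Sum.inl 0) := Fin.ext rfl
    rw [Module.Basis.reindex_apply, h0]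
    simp only [b₀, Module.Basis.reindex_apply, Equiv.symm_apply_apply, Module.Basis.map_apply]
    show Φ.symm _ = v
    rw [LinearEquiv.symm_apply_eq]
    refine Prod.ext ?_ (Subtype.ext ?_)
    · simp [Φ, hf, Module.Basis.prod_apply]
    · simp [Φ, hf, Module.Basis.prod_apply]
  rw [he]; exact hv

/-- The forms in question. -/
def H (r δ : ℕ) (g : ℤ) (d : Fin r → ℤ) : AddSubgroup ((Fin r → ℤ) →+ ZMod δ) :=
  AddSubgroup.closure {φ : (Fin r → ℤ) →+ ZMod δ | ∃ b : LinearMap.BilinForm ℤ (Fin r → ℤ), b.IsSymm ∧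
      ∀ x, φ x = ((b d x + (1 - g) * b x x : ℤ) : ZMod δ)}

/-- Coordinates on the forms in which the subgroup is a product of cyclic ones. -/
theorem exists_coords (n δ : ℕ) (g : ℤ) (hδ : (δ : ℤ) ∣ 2 * (g - 1)) (d : Fin (n + 1) → ℤ) :
    ∃ E : ((Fin (n + 1) → ℤ) →+ ZMod δ) ≃+ (ZMod δ × (Fin n → ZMod δ)),
      ∀ φ, φ ∈ H (n + 1) δ g d ↔
        (∃ t : ℤ, (E φ).1 = (((Finset.univ.gcd d + 1 - g) * t : ℤ) : ZMod δ)) ∧
          ∀ i, ∃ t : ℤ, (E φ).2 i = (((Int.gcd (g - 1) (Finset.univ.gcd d) : ℤ) * t : ℤ) : ZMod δ) := by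
  classical
  obtain ⟨e, hd⟩ := exists_basis n d
  let D := Finset.univ.gcd d
  let e' := e.reindex (Equiv.refl _)
  let E : ((Fin (n + 1) → ℤ) →+ ZMod δ) ≃+ (ZMod δ × (Fin n → ZMod δ)) :=
    { toFun := fun φ => (φ (e 0), fun i => φ (e i.succ))
      map_add' := fun φ ψ => rfl
      invFun := fun (p : ZMod δ × (Fin n → ZMod δ)) => (e.constr (M' := ZMod δ) ℤ (Fin.cons p.1 p.2 : Fin (n + 1) → ZMod δ)).toAddMonoidHom
      left_inv := fun φ => by
        have h : e.constr (M' := ZMod δ) ℤ (Fin.cons (φ (e 0)) (fun i => φ (e i.succ)) : Fin (n + 1) → ZMod δ) = φ.toIntLinearMap :=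
          e.ext fun i => by
            rw [Module.Basis.constr_basis]
            refine Fin.cases ?_ (fun j => ?_) i <;> simp
        exact AddMonoidHom.ext fun x => LinearMap.congr_fun h x
      right_inv := fun p => by
        refine Prod.ext ?_ (funext fun i => ?_)
        · exact (e.constr_basis (M' := ZMod δ) ℤ _ _).trans (by simp)
        · exact (e.constr_basis (M' := ZMod δ) ℤ _ _).trans (by simp) }
  let G : AddSubgroup ((Fin (n + 1) → ℤ) →+ ZMod δ) :=
    AddSubgroup.comap E.toAddMonoidHom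
      (((Int.castAddHom (ZMod δ)).comp (AddMonoidHom.mulLeft (D + 1 - g))).range.prod
        (AddSubgroup.pi Set.univ fun _ : Fin n =>
          ((Int.castAddHom (ZMod δ)).comp (AddMonoidHom.mulLeft (Int.gcd (g - 1) D : ℤ))).range))
  have hG : ∀ φ, φ ∈ G ↔ (∃ t : ℤ, (E φ).1 = (((D + 1 - g) * t : ℤ) : ZMod δ)) ∧
      ∀ i, ∃ t : ℤ, (E φ).2 i = (((Int.gcd (g - 1) D : ℤ) * t : ℤ) : ZMod δ) := fun φ => by
    simp only [G, AddSubgroup.mem_comap, AddSubgroup.mem_prod, AddSubgroup.mem_pi, Set.mem_univ, forall_true_left,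
      AddMonoidHom.mem_range, AddMonoidHom.coe_comp, Function.comp_apply, AddMonoidHom.coe_mulLeft,
      Int.coe_castAddHom]
    exact and_congr (exists_congr fun t => eq_comm) (forall_congr' fun i => exists_congr fun t => eq_comm)
  refine ⟨E, fun φ => ?_⟩
  suffices hHG : H (n + 1) δ g d = G by rw [hHG]; exact hG φ
  refine le_antisymm ((AddSubgroup.closure_le _).2 fun φ ⟨b, hb, hφ⟩ => (hG φ).2 ⟨⟨b (e 0) (e 0), ?_⟩, fun i => ?_⟩) fun φ hφ => ?_
  · show φ (e 0) = _
    rw [hφ, hd, map_smul, LinearMap.smul_apply, smul_eq_mul]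
    congr 1; ring
  · obtain ⟨p, hp⟩ := Int.gcd_dvd_right (g - 1) D
    obtain ⟨q, hq⟩ := Int.gcd_dvd_left (g - 1) D
    refine ⟨p * b (e 0) (e i.succ) - q * b (e i.succ) (e i.succ), ?_⟩
    show φ (e i.succ) = _
    rw [hφ, hd, map_smul, LinearMap.smul_apply, smul_eq_mul]
    congr 1
    linear_combination b (e 0) (e i.succ) * hp - b (e i.succ) (e i.succ) * hq
  · obtain ⟨⟨t, ht⟩, hi⟩ := (hG φ).1 hφ
    choose s hs using hi
    have hA := Int.gcd_eq_gcd_ab (g - 1) D
    let a := Int.gcdA (g - 1) D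
    let c := Int.gcdB (g - 1) D
    let B : Matrix (Fin (n + 1)) (Fin (n + 1)) ℤ := fun i j =>
      Fin.cases (Fin.cases t (fun l => c * s l) j)
        (fun k => Fin.cases (c * s k) (fun l => if k = l then -(a * s k) else 0) j) i
    let b : LinearMap.BilinForm ℤ (Fin (n + 1) → ℤ) := Matrix.toBilin e B
    have hbe : ∀ i j, b (e i) (e j) = B i j := fun i j => by
      have h := congrFun (congrFun (BilinForm.toMatrix_toBilin e B) i) j
      rwa [BilinForm.toMatrix_apply] at h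
    have hsymm : b.IsSymm := by
      refine ⟨fun x y => ?_⟩
      have h : b.flip = b := LinearMap.ext_basis e e fun i j => by
        show b (e j) (e i) = b (e i) (e j)
        rw [hbe, hbe]
        refine Fin.cases (Fin.cases rfl (fun l => rfl) j) (fun k => Fin.cases rfl (fun l => ?_) j) i
        show (if l = k then _ else _) = (if k = l then _ else _)
        by_cases h : k = l
        · subst h; rfl
        · rw [if_neg h, if_neg (Ne.symm h)]
      exact (LinearMap.congr_fun (LinearMap.congr_fun h y) x)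
    have h2 : ((2 * (g - 1) : ℤ) : ZMod δ) = 0 := (ZMod.intCast_zmod_eq_zero_iff_dvd _ δ).2 hδ
    let ψ : (Fin (n + 1) → ℤ) →+ ZMod δ := AddMonoidHom.mk' (fun x => ((b d x + (1 - g) * b x x : ℤ) : ZMod δ)) fun x y => by
      have h := hsymm.eq x y
      simp only [map_add, LinearMap.add_apply]
      push_cast
      push_cast at h2
      rw [show b y x = b x y from h.symm]
      linear_combination (-((b x y : ℤ) : ZMod δ)) * h2
    have hψ : φ = ψ := by
      refine E.injective (Prod.ext (ht.trans ?_) (funext fun i => (hs i).trans ?_))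
      · show _ = ((b d (e 0) + (1 - g) * b (e 0) (e 0) : ℤ) : ZMod δ)
        rw [hd, map_smul, LinearMap.smul_apply, smul_eq_mul, hbe]
        show _ = ((_ * t + (1 - g) * t : ℤ) : ZMod δ)
        congr 1; ring
      · show _ = ((b d (e i.succ) + (1 - g) * b (e i.succ) (e i.succ) : ℤ) : ZMod δ)
        rw [hd, map_smul, LinearMap.smul_apply, smul_eq_mul, hbe, hbe]
        show _ = ((_ * (c * s i) + (1 - g) * (if i = i then -(a * s i) else 0) : ℤ) : ZMod δ)
        rw [if_pos rfl]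
        congr 1
        linear_combination s i * hA
    exact AddSubgroup.subset_closure ⟨b, hsymm, fun x => by rw [hψ]; rfl⟩

/-- A multiple vanishes modulo the gcd. -/
theorem castHom_eq_zero_iff (δ : ℕ) (a : ℤ) (x : ZMod δ) :
    ZMod.castHom (show Int.gcd δ a ∣ δ from Int.gcd_dvd_natAbs_left _ _) (ZMod (Int.gcd δ a)) x = 0 ↔
      ∃ t : ℤ, x = ((a * t : ℤ) : ZMod δ) := by
  obtain ⟨z, rfl⟩ := ZMod.intCast_surjective x
  rw [map_intCast, ZMod.intCast_zmod_eq_zero_iff_dvd]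
  constructor
  · rintro ⟨t, ht⟩
    refine ⟨Int.gcdB δ a * t, ?_⟩
    rw [ht, Int.gcd_eq_gcd_ab]
    push_cast
    rw [ZMod.natCast_self]
    ring
  · rintro ⟨t, ht⟩
    rw [ZMod.intCast_eq_intCast_iff, Int.modEq_iff_dvd] at ht
    have h1 : ((Int.gcd δ a : ℕ) : ℤ) ∣ a * t - z := (Int.gcd_dvd_left (δ : ℤ) a).trans ht
    have h2 : ((Int.gcd δ a : ℕ) : ℤ) ∣ a * t := (Int.gcd_dvd_right (δ : ℤ) a).mul_right t
    simpa using dvd_sub h2 h1

/-- The kernel of a reduction is a cyclic group. -/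
theorem exists_equiv_ker (δ a : ℕ) (hδ : 0 < δ) (ha : a ∣ δ) :
    Nonempty ((ZMod.castHom ha (ZMod a)).toAddMonoidHom.ker ≃+ ZMod (δ / a)) := by
  haveI : NeZero δ := ⟨hδ.ne'⟩
  haveI : NeZero a := ⟨(Nat.pos_of_dvd_of_pos ha hδ).ne'⟩
  haveI : IsAddCyclic (ZMod.castHom ha (ZMod a)).toAddMonoidHom.ker := AddSubgroup.isAddCyclic _
  let φ := (ZMod.castHom ha (ZMod a)).toAddMonoidHom
  have hc := AddSubgroup.card_eq_card_quotient_mul_card_addSubgroup φ.ker
  have hs : Function.Surjective φ := ZMod.castHom_surjective ha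
  rw [Nat.card_congr (QuotientAddGroup.quotientKerEquivOfSurjective φ hs).toEquiv, Nat.card_zmod,
    Nat.card_zmod] at hc
  have hk : Nat.card φ.ker = δ / a := by
    exact (Nat.div_eq_of_eq_mul_right (Nat.pos_of_ne_zero (NeZero.ne a)) hc).symm
  exact ⟨((zmodAddCyclicAddEquiv (G := φ.ker) inferInstance).symm.trans (ZMod.ringEquivCongr hk).toAddEquiv)⟩

/-- The map to the product of the two reductions. -/
noncomputable def red (n δ : ℕ) (a c : ℤ) : ZMod δ × (Fin n → ZMod δ) →+ ZMod (Int.gcd δ a) × (Fin n → ZMod (Int.gcd δ c)) :=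
  (ZMod.castHom (show Int.gcd δ a ∣ δ from Int.gcd_dvd_natAbs_left _ _) (ZMod (Int.gcd δ a))).toAddMonoidHom.prodMap
    (AddMonoidHom.compLeft (ZMod.castHom (show Int.gcd δ c ∣ δ from Int.gcd_dvd_natAbs_left _ _) (ZMod (Int.gcd δ c))).toAddMonoidHom (Fin n))

theorem red_surjective (n δ : ℕ) (a c : ℤ) : Function.Surjective (red n δ a c) := fun p => by
  obtain ⟨x, hx⟩ := ZMod.castHom_surjective (show Int.gcd δ a ∣ δ from Int.gcd_dvd_natAbs_left _ _) p.1
  choose y hy using fun i => ZMod.castHom_surjective (show Int.gcd δ c ∣ δ from Int.gcd_dvd_natAbs_left _ _) (p.2 i)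
  exact ⟨(x, y), Prod.ext hx (funext hy)⟩

theorem red_eq_zero_iff (n δ : ℕ) (a c : ℤ) (p : ZMod δ × (Fin n → ZMod δ)) :
    red n δ a c p = 0 ↔ (∃ t : ℤ, p.1 = ((a * t : ℤ) : ZMod δ)) ∧ ∀ i, ∃ t : ℤ, p.2 i = ((c * t : ℤ) : ZMod δ) := by
  refine Prod.ext_iff.trans (and_congr (castHom_eq_zero_iff δ a p.1) ?_)
  exact funext_iff.trans (forall_congr' fun i => castHom_eq_zero_iff δ c (p.2 i))

/-- The quotient by the forms. -/
theorem quotient_equiv (n δ : ℕ) (g : ℤ) (hδ : (δ : ℤ) ∣ 2 * (g - 1)) (d : Fin (n + 1) → ℤ) :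
    Nonempty ((((Fin (n + 1) → ℤ) →+ ZMod δ) ⧸ H (n + 1) δ g d) ≃+
      (ZMod (Int.gcd δ (Finset.univ.gcd d + 1 - g)) ×
        (Fin n → ZMod (Int.gcd δ (Int.gcd (g - 1) (Finset.univ.gcd d)))))) := by
  obtain ⟨E, hE⟩ := exists_coords n δ g hδ d
  let f := (red n δ (Finset.univ.gcd d + 1 - g) (Int.gcd (g - 1) (Finset.univ.gcd d))).comp E.toAddMonoidHom
  have hk : H (n + 1) δ g d = f.ker := AddSubgroup.ext fun φ => (hE φ).trans (red_eq_zero_iff _ _ _ _ _).symm
  exact ⟨(QuotientAddGroup.quotientAddEquivOfEq hk).trans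
    (QuotientAddGroup.quotientKerEquivOfSurjective f ((red_surjective _ _ _ _).comp E.surjective))⟩

/-- The group of forms. -/
theorem forms_equiv (n δ : ℕ) (hδ0 : 0 < δ) (g : ℤ) (hδ : (δ : ℤ) ∣ 2 * (g - 1)) (d : Fin (n + 1) → ℤ) :
    Nonempty (H (n + 1) δ g d ≃+
      (ZMod (δ / Int.gcd δ (Finset.univ.gcd d + 1 - g)) ×
        (Fin n → ZMod (δ / Int.gcd δ (Int.gcd (g - 1) (Finset.univ.gcd d)))))) := by
  obtain ⟨E, hE⟩ := exists_coords n δ g hδ d
  set a := Finset.univ.gcd d + 1 - g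
  set c : ℤ := ((Int.gcd (g - 1) (Finset.univ.gcd d) : ℕ) : ℤ)
  obtain ⟨e₁⟩ := exists_equiv_ker δ (Int.gcd δ a) hδ0 (Int.gcd_dvd_natAbs_left _ _)
  obtain ⟨e₂⟩ := exists_equiv_ker δ (Int.gcd δ c) hδ0 (Int.gcd_dvd_natAbs_left _ _)
  let fwd : H (n + 1) δ g d ≃+ _ × (Fin n → _) :=
    { toFun := fun φ => (⟨(E φ.1).1, (castHom_eq_zero_iff δ a _).2 ((hE φ.1).1 φ.2).1⟩,
        fun i => ⟨(E φ.1).2 i, (castHom_eq_zero_iff δ c _).2 (((hE φ.1).1 φ.2).2 i)⟩)
      map_add' := fun φ ψ => by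
        refine Prod.ext (Subtype.ext ?_) (funext fun i => Subtype.ext ?_)
        · show (E (φ.1 + ψ.1)).1 = _
          rw [map_add]; rfl
        · show (E (φ.1 + ψ.1)).2 i = _
          rw [map_add]; rfl
      invFun := fun (p : (ZMod.castHom (show Int.gcd δ a ∣ δ from Int.gcd_dvd_natAbs_left _ _) (ZMod (Int.gcd δ a))).toAddMonoidHom.ker ×
          (Fin n → (ZMod.castHom (show Int.gcd δ c ∣ δ from Int.gcd_dvd_natAbs_left _ _) (ZMod (Int.gcd δ c))).toAddMonoidHom.ker)) =>
        ⟨E.symm (p.1.1, fun i => (p.2 i).1), (hE _).2 (by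
          rw [E.apply_symm_apply]
          exact ⟨(castHom_eq_zero_iff δ a _).1 p.1.2, fun i => (castHom_eq_zero_iff δ c _).1 (p.2 i).2⟩)⟩
      left_inv := fun φ => Subtype.ext (by
        show E.symm _ = _
        exact E.symm_apply_apply φ.1)
      right_inv := fun p => by
        refine Prod.ext (Subtype.ext ?_) (funext fun i => Subtype.ext ?_)
        · show (E (E.symm _)).1 = _
          rw [E.apply_symm_apply]
        · show (E (E.symm _)).2 i = _
          rw [E.apply_symm_apply] }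
  exact ⟨fwd.trans (e₁.prodCongr (AddEquiv.piCongrRight fun _ => e₂))⟩

end GrothLib.LatticeForms2
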